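import Cfsg.Agent.VanishClass.Char
import Cfsg.Agent.PLocalBasics.DualCore
import Cfsg.Agent.CoprimeAction.Invariant

/-!
Solvable groups with trivial `p`-core in which the vanishing `p`-singular elements form one class
have order not divisible by `p ^ 2`.
-/

set_option autoImplicit false

namespace CfsgLib.VanishClass

open scoped commutatorElement

universe u

variable {G : Type u} [Group G]

/-- A `p`-singular element at which some irreducible character is zero. -/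
def Van (p : ℕ) (a : G) : Prop := p ∣ orderOf a ∧ ∃ χ : Cfsg.IrrCharacter G, (χ : G → ℂ) a = 0

/-- The vanishing `p`-singular elements are all conjugate. -/
def One (p : ℕ) (G : Type u) [Group G] : Prop := ∀ a b : G, Van p a → Van p b → IsConj a b

theorem van_lift [Finite G] {H : Type u} [Group H] [Finite H] {p : ℕ} (f : G →* H)
    (hf : Function.Surjective f) {a : G} (h : Van p (f a)) : Van p a := by
  obtain ⟨hd, χ, hχ⟩ := h
  exact ⟨hd.trans (orderOf_map_dvd f a), ⟨_, CfsgLib.CharBasics.irr_comp_of_surjective χ.2 f hf⟩, hχ⟩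

theorem one_quotient [Finite G] {p : ℕ} (h : One p G) (N : Subgroup G) [N.Normal] :
    One p (G ⧸ N) := fun a b ha hb => by
  obtain ⟨a, rfl⟩ := QuotientGroup.mk'_surjective N a
  obtain ⟨b, rfl⟩ := QuotientGroup.mk'_surjective N b
  exact (QuotientGroup.mk' N).map_isConj
    (h a b (van_lift _ (QuotientGroup.mk'_surjective N) ha) (van_lift _ (QuotientGroup.mk'_surjective N) hb))

theorem mem_of_pow_mem_of_coprime (H : Subgroup G) {x : G} {a b : ℕ} (ha : x ^ a ∈ H)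
    (hb : x ^ b ∈ H) (h : a.Coprime b) : x ∈ H := by
  have h1 : x ^ (1 : ℤ) = (x ^ a) ^ Nat.gcdA a b * (x ^ b) ^ Nat.gcdB a b := by
    rw [← zpow_natCast x a, ← zpow_natCast x b, ← zpow_mul, ← zpow_mul, ← zpow_add, ← Nat.gcd_eq_gcd_ab, h, Nat.cast_one]
  rw [zpow_one] at h1
  rw [h1]
  exact H.mul_mem (H.zpow_mem ha _) (H.zpow_mem hb _)

theorem dvd_orderOf_of_pow_mem {p : ℕ} [hp : Fact p.Prime] (H : Subgroup G) {x : G}
    (hx : x ∉ H) (hxp : x ^ p ∈ H) : p ∣ orderOf x := by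
  by_contra hc
  exact hx (mem_of_pow_mem_of_coprime H hxp (by rw [pow_orderOf_eq_one]; exact H.one_mem)
    (hp.out.coprime_iff_not_dvd.2 hc))

theorem dvd_card_of_nontrivial {p : ℕ} [Fact p.Prime] [Finite G] [Nontrivial G] (h : IsPGroup p G) :
    p ∣ Nat.card G := by
  obtain ⟨n, hn, e⟩ := h.nontrivial_iff_card.1 inferInstance
  exact e ▸ dvd_pow_self p hn.ne'

section Layer

variable [Finite G] {p : ℕ} [Fact p.Prime] (K M : Subgroup G) [hK : K.Normal] [hM : M.Normal]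

theorem coprime_card_K (hcop : (Nat.card K).Coprime p) {S : Subgroup G} (hS : IsPGroup p S) :
    (Nat.card S).Coprime (Nat.card K) := by
  obtain ⟨n, hn⟩ := IsPGroup.iff_card.1 hS
  rw [hn]
  exact hcop.symm.pow_left n

/-- A complement of `K` in an elementary abelian layer `M`, unique up to conjugation under `K`. -/
theorem exists_complement (hKM : K ≤ M) (hcop : (Nat.card K).Coprime p)
    (hab : ∀ a ∈ M, ∀ b ∈ M, ⁅a, b⁆ ∈ K) (hpow : ∀ a ∈ M, a ^ p ∈ K) :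
    ∃ S : Subgroup G, S ≤ M ∧ IsPGroup p S ∧ S ⊓ K = ⊥ ∧ (∀ a ∈ S, a ^ p = 1) ∧
      (∀ a ∈ S, ∀ b ∈ S, a * b = b * a) ∧
      (∀ m ∈ M, ∃ k ∈ K, ∃ s ∈ S, m ^ Nat.card K = k * s * k⁻¹) ∧ M ≤ K ⊔ S := by
  have hp : p.Prime := Fact.out
  obtain ⟨P⟩ := (inferInstance : Nonempty (Sylow p M))
  set S := (P : Subgroup M).map M.subtype with hS
  have hSp : IsPGroup p S := P.isPGroup'.map _
  have hSK : S ⊓ K = ⊥ :=
    CfsgLib.CoprimeAction.inf_eq_bot_of_coprime (coprime_card_K K hcop hSp)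
  have hconj : ∀ m ∈ M, ∃ g ∈ M, ∃ s ∈ S, m ^ Nat.card K = g * s * g⁻¹ := by
    intro m hm
    let x : M := ⟨m, hm⟩ ^ Nat.card K
    have hx : x ^ p = 1 := Subtype.ext (by
      rw [Subgroup.coe_pow, Subgroup.coe_pow, ← pow_mul, mul_comm, pow_mul, Subgroup.coe_one]
      exact orderOf_dvd_iff_pow_eq_one.1 (Subgroup.orderOf_dvd_natCard K (hpow m hm)))
    have hpg : IsPGroup p (Subgroup.zpowers x) := fun y => ⟨1, by
      obtain ⟨j, hj⟩ := y.2
      refine Subtype.ext ?_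
      rw [Subgroup.coe_pow, ← hj, pow_one, ← zpow_natCast, ← zpow_mul, mul_comm, zpow_mul,
        zpow_natCast, hx, one_zpow, Subgroup.coe_one]⟩
    obtain ⟨Q, hQ⟩ := hpg.exists_le_sylow
    obtain ⟨g, rfl⟩ := MulAction.exists_smul_eq M P Q
    have hxQ := hQ (Subgroup.mem_zpowers x)
    rw [Sylow.coe_subgroup_smul] at hxQ
    obtain ⟨s, hs, hsx⟩ := hxQ
    refine ⟨g, g.2, _, ⟨s, hs, rfl⟩, ?_⟩
    have := congrArg Subtype.val hsx
    simp [x] at this
    exact this.symm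
  have hle : M ≤ K ⊔ S := by
    intro m hm
    refine mem_of_pow_mem_of_coprime _ (Subgroup.mem_sup_left (hpow m hm)) ?_ hcop.symm
    obtain ⟨g, hg, s, hs, e⟩ := hconj m hm
    rw [e, show g * s * g⁻¹ = ⁅g, s⁆ * s by group]
    exact Subgroup.mul_mem _ (Subgroup.mem_sup_left (hab g hg s (Subgroup.map_subtype_le _ hs)))
      (Subgroup.mem_sup_right hs)
  have hsmall : ∀ a ∈ S, a ∈ K → a = 1 := fun a ha hk =>
    Subgroup.mem_bot.1 (hSK ▸ Subgroup.mem_inf.2 ⟨ha, hk⟩)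
  have hcomm : ∀ a ∈ S, ∀ b ∈ S, a * b = b * a := fun a ha b hb =>
    commutatorElement_eq_one_iff_mul_comm.1 (hsmall _
      (S.mul_mem (S.mul_mem (S.mul_mem ha hb) (S.inv_mem ha)) (S.inv_mem hb))
      (hab a (Subgroup.map_subtype_le _ ha) b (Subgroup.map_subtype_le _ hb)))
  refine ⟨S, Subgroup.map_subtype_le _, hSp, hSK, fun a ha => hsmall _ (S.pow_mem ha p)
    (hpow a (Subgroup.map_subtype_le _ ha)), hcomm, fun m hm => ?_, hle⟩
  obtain ⟨g, hg, s, hs, e⟩ := hconj m hm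
  obtain ⟨k, hk, t, ht, rfl⟩ := Subgroup.mem_sup_of_normal_left.1 (hle hg)
  refine ⟨k, hk, s, hs, ?_⟩
  rw [e, show k * t * s * (k * t)⁻¹ = k * (t * s * t⁻¹) * k⁻¹ by group, hcomm t ht s hs, mul_inv_cancel_right]

/-- A self-centralizing normal `p'`-subgroup: most of an elementary abelian layer above it vanishes. -/
theorem exists_van_layer [Group.IsSolvable G] (hCK : Subgroup.centralizer (K : Set G) ≤ K)
    (hKM : K < M) (hcop : (Nat.card K).Coprime p)
    (hab : ∀ a ∈ M, ∀ b ∈ M, ⁅a, b⁆ ∈ K) (hpow : ∀ a ∈ M, a ^ p ∈ K) :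
    ∃ M0 : Subgroup G, M0.Normal ∧ K ≤ M0 ∧ M0 < M ∧ ∀ m ∈ M, m ∉ M0 → Van p m := by
  classical
  obtain ⟨S, hSM, hSp, hSK, hexp, hcomm, hconj, hMKS⟩ := exists_complement K M hKM.le hcop hab hpow
  have hbot : (⊥ : Subgroup G).Normal ∧ (⊥ : Subgroup G) ≤ K ∧ ¬ ⁅K, S⁆ ≤ ⊥ := by
    refine ⟨inferInstance, bot_le, fun h => hKM.not_ge ?_⟩
    have h1 : S ≤ K := le_trans (fun s hs => Subgroup.mem_centralizer_iff.2 fun k hk =>
      commutatorElement_eq_one_iff_mul_comm.1 (Subgroup.mem_bot.1 (h (Subgroup.commutator_mem_commutator hk hs)))) hCK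
    exact hMKS.trans (sup_le le_rfl h1)
  obtain ⟨N, ⟨hN, hNK, hNS⟩, hNmax⟩ := (Set.toFinite
    {N : Subgroup G | N.Normal ∧ N ≤ K ∧ ¬ ⁅K, S⁆ ≤ N}).exists_maximal ⟨⊥, hbot⟩
  have hKS : ⁅K, S⁆ ≤ K := Subgroup.commutator_le.2 fun k hk s _ => by
    rw [show ⁅k, s⁆ = k * (s * k⁻¹ * s⁻¹) by group]
    exact K.mul_mem hk (hK.conj_mem _ (K.inv_mem hk) s)
  have hNK' : N < K := lt_of_le_of_ne hNK fun e => hNS (e ▸ hKS)
  obtain ⟨K2, ⟨hK2, hNK2, hK2K⟩, hK2min⟩ := (Set.toFinite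
    {L : Subgroup G | L.Normal ∧ N < L ∧ L ≤ K}).exists_minimal ⟨K, hK, hNK', le_rfl⟩
  have hKS2 : ⁅K, S⁆ ≤ K2 := by
    by_contra hc
    exact hNK2.not_ge (hNmax ⟨hK2, hK2K, hc⟩ hNK2.le)
  set π := QuotientGroup.mk' N with hπdef
  have hπs : Function.Surjective π := QuotientGroup.mk'_surjective N
  have hπ1 : ∀ x, π x = 1 ↔ x ∈ N := fun x => QuotientGroup.eq_one_iff x
  set V := K2.map π with hVdef
  haveI : V.Normal := hK2.map π hπs
  have hVne : V ≠ ⊥ := fun h => hNK2.not_ge fun x hx => (hπ1 x).1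
    (Subgroup.mem_bot.1 (h ▸ Subgroup.mem_map_of_mem π hx))
  have hVab : ⁅V, V⁆ = ⊥ := by
    by_contra hne
    have hlt : ⁅V, V⁆ < V := Group.IsSolvable.commutator_lt_of_ne_bot hVne
    have hNle : N ≤ ⁅V, V⁆.comap π := fun x hx => by
      rw [Subgroup.mem_comap, (hπ1 x).2 hx]; exact one_mem _
    rcases hNle.lt_or_eq with h | h
    · have hle : ⁅V, V⁆.comap π ≤ K2 := by
        refine le_trans (Subgroup.comap_mono hlt.le) ?_
        rw [hVdef, Subgroup.comap_map_eq, QuotientGroup.ker_mk']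
        exact sup_le le_rfl hNK2.le
      have hge := hK2min ⟨Subgroup.Normal.comap inferInstance π, h, hle.trans hK2K⟩ hle
      refine hlt.not_ge ?_
      rw [hVdef]
      exact Subgroup.map_le_iff_le_comap.2 hge
    · refine hne ?_
      rw [← Subgroup.map_comap_eq_self_of_surjective hπs ⁅V, V⁆, ← h, eq_bot_iff]
      rintro _ ⟨x, hx, rfl⟩
      exact Subgroup.mem_bot.2 ((hπ1 x).2 hx)
  haveI : IsMulCommutative V := ⟨⟨fun a b => Subtype.ext (commutatorElement_eq_one_iff_mul_comm.1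
    (Subgroup.mem_bot.1 (hVab ▸ Subgroup.commutator_mem_commutator a.2 b.2)))⟩⟩
  set C' := (Subgroup.centralizer (V : Set (G ⧸ N))).comap π with hC'
  haveI : C'.Normal := Subgroup.Normal.comap Subgroup.normal_centralizer π
  let M0 := K ⊔ (M ⊓ C')
  have hpowK : ∀ s : G, s ^ p = 1 → s ^ Nat.card K ∈ C' → s ∈ C' := fun s hs h =>
    mem_of_pow_mem_of_coprime _ h (by rw [hs]; exact one_mem _) hcop
  have hcopV : (Nat.card ↥(S.map π)).Coprime (Nat.card V) :=
    ((coprime_card_K K hcop hSp).coprime_dvd_left (Subgroup.card_map_dvd S π)).coprime_dvd_right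
      ((Subgroup.card_map_dvd K2 π).trans (Subgroup.card_dvd_of_le hK2K))
  have hlt : M0 < M := by
    refine lt_of_le_of_ne (sup_le hKM.le inf_le_left) fun e => hNS ?_
    have hSC : S ≤ C' := by
      intro s hs
      have hs0 : s ∈ K ⊔ (M ⊓ C') := by rw [show K ⊔ (M ⊓ C') = M from e]; exact hSM hs
      obtain ⟨k, hk, c, hc, rfl⟩ := Subgroup.mem_sup_of_normal_left.1 hs0
      obtain ⟨hcM, hcC⟩ := Subgroup.mem_inf.1 hc
      obtain ⟨k1, hk1, s1, hs1, e1⟩ := hconj c hcM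
      refine hpowK _ (hexp _ hs) ?_
      have hmk : ∀ x ∈ K, (QuotientGroup.mk' K) x = 1 := fun x hx => (QuotientGroup.eq_one_iff x).2 hx
      have heq : s1 = (k * c) ^ Nat.card K := by
        refine (inv_mul_eq_one).1 (Subgroup.mem_bot.1 (hSK ▸ Subgroup.mem_inf.2
          ⟨S.mul_mem (S.inv_mem hs1) (S.pow_mem hs _), (QuotientGroup.eq_one_iff _).1 ?_⟩))
        show QuotientGroup.mk' K (s1⁻¹ * (k * c) ^ Nat.card K) = 1
        rw [map_mul, map_inv, map_pow, map_mul, hmk k hk, one_mul, ← map_pow, e1, map_mul, map_mul,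
          map_inv, hmk k1 hk1, one_mul, inv_one, mul_one, inv_mul_cancel]
      rw [← heq, show s1 = k1⁻¹ * c ^ Nat.card K * k1 by rw [e1]; group]
      have := (inferInstance : C'.Normal).conj_mem _ (C'.pow_mem hcC (Nat.card K)) k1⁻¹
      rwa [inv_inv] at this
    have hA : S.map π ≤ Subgroup.centralizer (V : Set (G ⧸ N)) := Subgroup.map_le_iff_le_comap.2 hSC
    have hch : S.map π ≤ Subgroup.centralizer (K.map π : Set (G ⧸ N)) := by
      refine CfsgLib.CoprimeAction.le_centralizer_of_chain hcopV hA ?_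
      rw [← Subgroup.map_commutator]
      exact Subgroup.map_mono hKS2
    refine Subgroup.commutator_le.2 fun k hk s hs => (hπ1 _).1 ?_
    rw [map_commutatorElement, commutatorElement_eq_one_iff_mul_comm]
    exact Subgroup.mem_centralizer_iff.1 (hch (Subgroup.mem_map_of_mem π hs)) _ (Subgroup.mem_map_of_mem π hk)
  refine ⟨M0, inferInstance, le_sup_left, hlt, fun m hm hm0 => ?_⟩
  have hd : p ∣ orderOf m :=
    dvd_orderOf_of_pow_mem K (fun h => hm0 (Subgroup.mem_sup_left h)) (hpow m hm)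
  obtain ⟨lam, hlam⟩ := exists_regular_orbit V (S.map π) (by
    rintro _ ⟨a, ha, rfl⟩ _ ⟨b, hb, rfl⟩
    rw [← map_mul, ← map_mul, hcomm a ha b hb]) hcopV
  suffices hmov : ∀ g : G ⧸ N, ∃ v : V, lam (MulAut.conjNormal g (MulAut.conjNormal (π m) v)) ≠
      lam (MulAut.conjNormal g v) by
    obtain ⟨χ, hχ⟩ := exists_zero_of_moved V lam hmov
    exact ⟨hd, ⟨_, CfsgLib.CharBasics.irr_comp_of_surjective χ.2 π hπs⟩, hχ⟩
  intro g
  by_contra hfix
  push Not at hfix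
  obtain ⟨g, rfl⟩ := hπs g
  set m' := g * m * g⁻¹ with hm'
  have hm'M : m' ∈ M := hM.conj_mem m hm g
  have hfix1 : ∀ w : V, lam (MulAut.conjNormal (π m') w) = lam w := fun w => by
    have h := hfix ((MulAut.conjNormal (π g)).symm w)
    rw [MulEquiv.apply_symm_apply] at h
    rw [← h]
    congr 1
    apply Subtype.ext
    simp [hm', mul_assoc]
  have hfixn : ∀ i : ℕ, ∀ w : V, lam (MulAut.conjNormal (π m' ^ i) w) = lam w := fun i => by
    induction i with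
    | zero => simp
    | succ i ih => intro w; rw [pow_succ', map_mul, MulAut.mul_apply, hfix1, ih]
  obtain ⟨k, hk, s, hs, e⟩ := hconj m' hm'M
  have hks : π ⁅k, s⁆ ∈ V :=
    Subgroup.mem_map_of_mem π (hKS2 (Subgroup.commutator_mem_commutator hk hs))
  have hsC : s ∈ C' := by
    have hs' := hlam _ (Subgroup.mem_map_of_mem π hs) fun w => by
      rw [← hfixn (Nat.card K) w]
      congr 1
      apply Subtype.ext
      have hcw : π ⁅k, s⁆ * (π s * (w : G ⧸ N) * (π s)⁻¹) = (π s * (w : G ⧸ N) * (π s)⁻¹) * π ⁅k, s⁆ :=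
        congrArg Subtype.val (Std.Commutative.comm (op := ((· * ·) : V → V → V)) ⟨_, hks⟩ (MulAut.conjNormal (π s) w))
      rw [MulAut.conjNormal_apply, MulAut.conjNormal_apply, ← map_pow, e, show k * s * k⁻¹ = ⁅k, s⁆ * s by group, map_mul]
      rw [mul_inv_rev, show π ⁅k, s⁆ * π s * (w : G ⧸ N) * ((π s)⁻¹ * (π ⁅k, s⁆)⁻¹)
        = π ⁅k, s⁆ * (π s * (w : G ⧸ N) * (π s)⁻¹) * (π ⁅k, s⁆)⁻¹ by group, hcw, mul_inv_cancel_right]
    refine Subgroup.mem_comap.2 (Subgroup.mem_centralizer_iff.2 fun v hv => ?_)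
    have h1 := congrArg Subtype.val (hs' ⟨v, hv⟩)
    rw [MulAut.conjNormal_apply] at h1
    exact (mul_inv_eq_iff_eq_mul.1 h1).symm
  have hpk : m' ^ Nat.card K ∈ M0 := Subgroup.mem_sup_right (Subgroup.mem_inf.2
    ⟨M.pow_mem hm'M _, e ▸ (inferInstance : C'.Normal).conj_mem s hsC k⟩)
  have hmem : m' ∈ M0 := mem_of_pow_mem_of_coprime _ hpk (Subgroup.mem_sup_left (hpow m' hm'M)) hcop
  refine hm0 ?_
  have := (inferInstance : M0.Normal).conj_mem m' hmem g⁻¹
  rwa [hm', show g⁻¹ * (g * m * g⁻¹) * g⁻¹⁻¹ = m by group] at this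

end Layer

variable [Finite G] {p : ℕ} [Fact p.Prime]

/-- The data attached to the smallest layer above the `p'`-core. -/
theorem setup [Group.IsSolvable G] (hO : Cfsg.pCore p G = ⊥) (hdvd : p ∣ Nat.card G) :
    ∃ (_ : (Cfsg.pPrimeCore p G).Normal) (Y : Subgroup (G ⧸ Cfsg.pPrimeCore p G)),
      Y.Normal ∧ Y ≠ ⊥ ∧
      (∀ y, y ∈ Y ↔ y ∈ Cfsg.pCore p (G ⧸ Cfsg.pPrimeCore p G) ∧
        (∀ u ∈ Cfsg.pCore p (G ⧸ Cfsg.pPrimeCore p G), y * u = u * y) ∧ y ^ p = 1) ∧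
      Subgroup.centralizer (Cfsg.pPrimeCore p G : Set G) ≤ Cfsg.pPrimeCore p G := by
  have hp : p.Prime := Fact.out
  haveI := CfsgLib.PCore.pPrimeCore_characteristic p G
  refine ⟨inferInstance, ?_⟩
  set K := Cfsg.pPrimeCore p G
  haveI := CfsgLib.PCore.pCore_characteristic p (G ⧸ K)
  haveI : Group.IsSolvable (G ⧸ K) := Group.isSolvable_of_surjective (QuotientGroup.mk'_surjective K)
  set U := Cfsg.pCore p (G ⧸ K) with hUdef
  let Y : Subgroup (G ⧸ K) :=
    { carrier := {y | y ∈ U ∧ (∀ u ∈ U, y * u = u * y) ∧ y ^ p = 1}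
      one_mem' := ⟨U.one_mem, fun u _ => by rw [one_mul, mul_one], one_pow p⟩
      mul_mem' := fun {a b} ha hb => ⟨U.mul_mem ha.1 hb.1, fun u hu => by
        rw [mul_assoc, hb.2.1 u hu, ← mul_assoc, ha.2.1 u hu, mul_assoc], by
        rw [Commute.mul_pow (ha.2.1 b hb.1), ha.2.2, hb.2.2, one_mul]⟩
      inv_mem' := fun {a} ha => ⟨U.inv_mem ha.1, fun u hu => (Commute.inv_left (ha.2.1 u hu)).eq, by
        rw [inv_pow, ha.2.2, inv_one]⟩ }
  refine ⟨Y, ⟨fun y hy g => ?_⟩, ?_, fun y => Iff.rfl, ?_⟩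
  · refine ⟨(inferInstance : U.Normal).conj_mem y hy.1 g, fun u hu => ?_, ?_⟩
    · have hu' := hy.2.1 _ ((inferInstance : U.Normal).conj_mem u hu g⁻¹)
      calc g * y * g⁻¹ * u = g * (y * (g⁻¹ * u * g⁻¹⁻¹)) * g⁻¹ := by group
        _ = g * ((g⁻¹ * u * g⁻¹⁻¹) * y) * g⁻¹ := by rw [hu']
        _ = u * (g * y * g⁻¹) := by group
    · rw [conj_pow, hy.2.2]; group
  · haveI : Nontrivial (G ⧸ K) := by
      rw [← Finite.one_lt_card_iff_nontrivial, ← Subgroup.index_eq_card]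
      refine Subgroup.one_lt_index_of_ne_top fun h => ?_
      have h1 := CfsgLib.PCore.not_dvd_card_pPrimeCore p G
      rw [show Cfsg.pPrimeCore p G = ⊤ from h, Subgroup.card_top] at h1
      exact h1 hdvd
    have hUne : U ≠ ⊥ := by
      rcases CfsgLib.PCore.cores_ne_bot_of_isSolvable (p := p) (G := G ⧸ K) with h | h
      · exact h
      · exact absurd CfsgLib.PCore.pPrimeCore_quotient h
    haveI : Nontrivial U := (Subgroup.nontrivial_iff_ne_bot U).2 hUne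
    have hUp : IsPGroup p U := CfsgLib.PCore.isPGroup_pCore p (G ⧸ K)
    haveI := hUp.center_nontrivial
    obtain ⟨z, hz⟩ := exists_prime_orderOf_dvd_card' p
      (dvd_card_of_nontrivial (hUp.to_subgroup (Subgroup.center U)))
    intro hY
    have hzY : ((z : U) : G ⧸ K) ∈ Y := ⟨(z : U).2, fun u hu => congrArg Subtype.val
      (Subgroup.mem_center_iff.1 z.2 ⟨u, hu⟩).symm, by
      rw [← Subgroup.coe_pow, ← Subgroup.coe_pow, orderOf_dvd_iff_pow_eq_one.1 hz.dvd]; rfl⟩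
    rw [hY, Subgroup.mem_bot] at hzY
    have : z = 1 := Subtype.ext (Subtype.ext hzY)
    rw [this, orderOf_one] at hz
    exact hp.one_lt.ne hz
  · exact CfsgLib.PLocalBasics.centralizer_pPrimeCore_le p CfsgLib.PCore.isPSolvable_of_isSolvable hO

theorem layer_props {K : Subgroup G} [K.Normal] {Y : Subgroup (G ⧸ K)}
    (hab : ∀ a ∈ Y, ∀ b ∈ Y, a * b = b * a) (hpow : ∀ a ∈ Y, a ^ p = 1) (hne : Y ≠ ⊥) :
    K < Y.comap (QuotientGroup.mk' K) ∧
    (∀ a ∈ Y.comap (QuotientGroup.mk' K), ∀ b ∈ Y.comap (QuotientGroup.mk' K), ⁅a, b⁆ ∈ K) ∧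
    ∀ a ∈ Y.comap (QuotientGroup.mk' K), a ^ p ∈ K := by
  refine ⟨lt_of_le_of_ne (fun x hx => ?_) fun e => hne ?_, fun a ha b hb => ?_, fun a ha => ?_⟩
  · rw [Subgroup.mem_comap, show QuotientGroup.mk' K x = 1 from (QuotientGroup.eq_one_iff x).2 hx]
    exact Y.one_mem
  · rw [← Subgroup.map_comap_eq_self_of_surjective (QuotientGroup.mk'_surjective K) Y, ← e,
      QuotientGroup.map_mk'_self]
  · refine (QuotientGroup.eq_one_iff _).1 ?_
    show QuotientGroup.mk' K ⁅a, b⁆ = 1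
    rw [map_commutatorElement, commutatorElement_eq_one_iff_mul_comm]
    exact hab _ ha _ hb
  · refine (QuotientGroup.eq_one_iff _).1 ?_
    show QuotientGroup.mk' K (a ^ p) = 1
    rw [map_pow]
    exact hpow _ ha

theorem exists_van [Group.IsSolvable G] (hO : Cfsg.pCore p G = ⊥) (hdvd : p ∣ Nat.card G) :
    ∃ a : G, Van p a := by
  obtain ⟨_, Y, hYn, hYne, hY, hCK⟩ := setup hO hdvd
  obtain ⟨hlt, hab, hpow⟩ := layer_props (p := p) (fun a ha b hb => ((hY a).1 ha).2.1 b ((hY b).1 hb).1)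
    (fun a ha => ((hY a).1 ha).2.2) hYne
  obtain ⟨M0, -, -, hM0, hvan⟩ := exists_van_layer _ _ hCK hlt (CfsgLib.PCore.pPrimeCore_coprime p G) hab hpow
  obtain ⟨m, hm, hm0⟩ := SetLike.exists_of_lt hM0
  exact ⟨m, hvan m hm hm0⟩

/-- The main reduction: trivial `p`-core and one vanishing class force a small Sylow subgroup. -/
theorem not_sq_dvd [Group.IsSolvable G] (hO : Cfsg.pCore p G = ⊥) (hone : One p G) :
    ¬ p ^ 2 ∣ Nat.card G := by
  intro hsq
  have hp : p.Prime := Fact.out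
  have hdvd : p ∣ Nat.card G := (dvd_pow_self p two_ne_zero).trans hsq
  obtain ⟨hKn, Y, hYn, hYne, hY, hCK⟩ := setup hO hdvd
  set K := Cfsg.pPrimeCore p G with hKdef
  set mk := QuotientGroup.mk' K with hmkdef
  have hmks : Function.Surjective mk := QuotientGroup.mk'_surjective K
  set U := Cfsg.pCore p (G ⧸ K) with hUdef
  have hcop : (Nat.card K).Coprime p := CfsgLib.PCore.pPrimeCore_coprime p G
  have hYab : ∀ a ∈ Y, ∀ b ∈ Y, a * b = b * a := fun a ha b hb => ((hY a).1 ha).2.1 b ((hY b).1 hb).1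
  obtain ⟨hlt, hab, hpow⟩ := layer_props (p := p) hYab (fun a ha => ((hY a).1 ha).2.2) hYne
  set M := Y.comap mk with hMdef
  obtain ⟨M0, hM0n, hKM0, hM0, hvan⟩ := exists_van_layer K M hCK hlt hcop hab hpow
  obtain ⟨m₁, hm₁, hm₁0⟩ := SetLike.exists_of_lt hM0
  have hM0K : K = M0 := by
    by_contra hne
    obtain ⟨M1, -, -, hM1, hvan1⟩ := exists_van_layer K M0 hCK (lt_of_le_of_ne hKM0 hne) hcop
      (fun a ha b hb => hab a (hM0.le ha) b (hM0.le hb)) (fun a ha => hpow a (hM0.le ha))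
    obtain ⟨m, hm, hm'⟩ := SetLike.exists_of_lt hM1
    obtain ⟨c, hc⟩ := isConj_iff.1 (hone m m₁ (hvan1 m hm hm') (hvan m₁ hm₁ hm₁0))
    exact hm₁0 (hc ▸ hM0n.conj_mem m hm c)
  subst hM0K
  -- every vanishing `p`-singular element lies in `M` and has order `p`
  have hmem : ∀ a, Van p a → a ∈ M := fun a ha => by
    obtain ⟨c, hc⟩ := isConj_iff.1 (hone m₁ a (hvan m₁ hm₁ hm₁0) ha)
    exact hc ▸ (inferInstance : M.Normal).conj_mem m₁ hm₁ c
  have hz : m₁ ^ Nat.card K ∈ M ∧ m₁ ^ Nat.card K ∉ K ∧ (m₁ ^ Nat.card K) ^ p = 1 :=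
    ⟨M.pow_mem hm₁ _, fun h => hm₁0 (mem_of_pow_mem_of_coprime K h (hpow m₁ hm₁) hcop), by
      rw [← pow_mul, mul_comm, pow_mul]
      exact orderOf_dvd_iff_pow_eq_one.1 (Subgroup.orderOf_dvd_natCard K (hpow m₁ hm₁))⟩
  have hordp : ∀ a ∈ M, a ∉ K → a ^ p = 1 := fun a ha ha' => by
    obtain ⟨c, hc⟩ := isConj_iff.1 (hone _ a (hvan _ hz.1 hz.2.1) (hvan a ha ha'))
    rw [← hc, conj_pow, hz.2.2]; group
  have hfpf : ∀ a ∈ M, a ∉ K → ∀ k ∈ K, k * a = a * k → k = 1 := by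
    intro a ha ha' k hk hka
    have h1 := hordp (k * a) (M.mul_mem (hlt.le hk) ha) fun h => ha' ((K.mul_mem_cancel_left hk).1 h)
    rw [Commute.mul_pow hka, hordp a ha ha', mul_one] at h1
    have h2 := pow_gcd_eq_one.2 ⟨orderOf_dvd_iff_pow_eq_one.1 (Subgroup.orderOf_dvd_natCard K hk), h1⟩
    rwa [hcop, pow_one] at h2
  obtain ⟨S, hSM, hSp, hSK, hexp, hcomm, hconj, hMKS⟩ := exists_complement K M hlt.le hcop hab hpow
  have hYS : ∀ y ∈ Y, ∃ s ∈ S, mk s = y := by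
    intro y hy
    obtain ⟨m, rfl⟩ := hmks y
    obtain ⟨k, hk, s, hs, rfl⟩ := Subgroup.mem_sup_of_normal_left.1 (hMKS (show m ∈ M from hy))
    exact ⟨s, hs, by rw [map_mul, show mk k = 1 from (QuotientGroup.eq_one_iff k).2 hk, one_mul]⟩
  -- the layer has order `p`
  have hScyc : IsCyclic S := by
    by_contra hS
    haveI : IsMulCommutative S := ⟨⟨fun a b => Subtype.ext (hcomm _ a.2 _ b.2)⟩⟩
    have hK1 : K ≤ ⊥ := CfsgLib.CoprimeAction.le_of_centralizers_le hS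
      (Subgroup.le_normalizer_iff.2 fun a _ x hx => hKn.conj_mem x hx a)
      (coprime_card_K K hcop hSp) fun a ha ha1 k hk => by
        refine Subgroup.mem_bot.2 (hfpf a (hSM ha) (fun h => ha1 ?_) k hk.1
          ((Subgroup.mem_centralizer_singleton_iff).1 hk.2))
        exact Subgroup.mem_bot.1 (hSK ▸ Subgroup.mem_inf.2 ⟨ha, h⟩)
    refine hm₁0 (hCK ?_)
    rw [eq_bot_iff.2 hK1]
    exact Subgroup.mem_centralizer_iff.2 fun k hk => by
      rw [Subgroup.mem_bot.1 hk, one_mul, mul_one]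
  obtain ⟨s₀, hs₀⟩ := hScyc.exists_generator
  have hYcyc : ∀ y ∈ Y, y ∈ Subgroup.zpowers (mk (s₀ : G)) := by
    intro y hy
    obtain ⟨s, hs, rfl⟩ := hYS y hy
    obtain ⟨j, hj⟩ := hs₀ ⟨s, hs⟩
    refine ⟨j, ?_⟩
    show mk (s₀ : G) ^ j = _
    rw [← map_zpow, ← Subgroup.coe_zpow]
    exact congrArg (fun x : S => mk (x : G)) hj
  have hs₀Y : mk (s₀ : G) ∈ Y := hSM s₀.2
  have hs₀1 : mk (s₀ : G) ≠ 1 := fun h => hYne (eq_bot_iff.2 fun y hy => by
    have := hYcyc y hy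
    rwa [h, Subgroup.zpowers_one_eq_bot] at this)
  have hYord : orderOf (mk (s₀ : G)) = p := orderOf_eq_prime ((hY _).1 hs₀Y).2.2 hs₀1
  have hYgen : ∀ d ∈ Y, d ≠ 1 → ∀ y ∈ Y, y ∈ Subgroup.zpowers d := by
    intro d hd hd1 y hy
    have hle : Subgroup.zpowers d ≤ Subgroup.zpowers (mk (s₀ : G)) := Subgroup.zpowers_le.2 (hYcyc d hd)
    have he := Subgroup.eq_of_le_of_card_ge hle (by
      rw [Nat.card_zpowers, Nat.card_zpowers, hYord, orderOf_eq_prime ((hY d).1 hd).2.2 hd1])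
    exact he ▸ hYcyc y hy
  have hUp : IsPGroup p U := CfsgLib.PCore.isPGroup_pCore p (G ⧸ K)
  haveI := CfsgLib.PCore.pCore_characteristic p (G ⧸ K)
  have hdvdU : ∀ x ∈ U, x ≠ 1 → p ∣ orderOf x := fun x hx hx1 => by
    obtain ⟨j, hj⟩ := IsPGroup.iff_orderOf.1 hUp ⟨x, hx⟩
    rw [Subgroup.orderOf_mk] at hj
    rcases j with _ | j
    · exact absurd (orderOf_eq_one_iff.1 (by rw [hj, pow_zero])) hx1
    · exact hj ▸ dvd_pow_self p j.succ_ne_zero
  -- the `p`-core of the quotient is abelian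
  have hUab : ∀ a ∈ U, ∀ b ∈ U, a * b = b * a := by
    by_contra hna
    have hZne : Subgroup.center U ≠ ⊤ := fun h => hna fun a ha b hb => congrArg Subtype.val
      (Subgroup.mem_center_iff.1 (h ▸ Subgroup.mem_top (⟨b, hb⟩ : U)) ⟨a, ha⟩)
    haveI : Nontrivial (U ⧸ Subgroup.center U) := by
      rw [← Finite.one_lt_card_iff_nontrivial, ← Subgroup.index_eq_card]
      exact Subgroup.one_lt_index_of_ne_top hZne
    haveI := (hUp.to_quotient (Subgroup.center U)).center_nontrivial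
    obtain ⟨⟨x', hx'⟩, hx'1⟩ := exists_ne (1 : Subgroup.center (U ⧸ Subgroup.center U))
    obtain ⟨x, rfl⟩ := QuotientGroup.mk'_surjective (Subgroup.center U) x'
    have hxZ : x ∉ Subgroup.center U := fun h => hx'1 (Subtype.ext ((QuotientGroup.eq_one_iff x).2 h))
    have hcen : ∀ u : U, ⁅u, x⁆ ∈ Subgroup.center U := fun u => by
      refine (QuotientGroup.eq_one_iff _).1 ?_
      show QuotientGroup.mk' (Subgroup.center U) ⁅u, x⁆ = 1
      rw [map_commutatorElement, commutatorElement_eq_one_iff_mul_comm]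
      exact Subgroup.mem_center_iff.1 hx' _
    let φ : U →* U := MonoidHom.mk' (fun u => ⁅u, x⁆) fun a b => by
      show ⁅a * b, x⁆ = _
      rw [show ⁅a * b, x⁆ = a * ⁅b, x⁆ * (x * a⁻¹ * x⁻¹) by group, Subgroup.mem_center_iff.1 (hcen b) a,
        mul_assoc, show a * (x * a⁻¹ * x⁻¹) = ⁅a, x⁆ by group]
      exact (Subgroup.mem_center_iff.1 (hcen b) _).symm
    haveI : Nontrivial φ.range := (Subgroup.nontrivial_iff_ne_bot _).2 fun h => hxZ
      (Subgroup.mem_center_iff.2 fun u => commutatorElement_eq_one_iff_mul_comm.1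
        (Subgroup.mem_bot.1 (h ▸ ⟨u, rfl⟩ : φ u ∈ (⊥ : Subgroup U))))
    obtain ⟨d, hd⟩ := exists_prime_orderOf_dvd_card' p (dvd_card_of_nontrivial (hUp.to_subgroup φ.range))
    obtain ⟨u₀, hu₀⟩ := d.2
    have hdY : ((d : U) : G ⧸ K) ∈ Y := (hY _).2 ⟨(d : U).2, fun u hu => congrArg Subtype.val
      (Subgroup.mem_center_iff.1 (hu₀ ▸ hcen u₀) ⟨u, hu⟩).symm, by
      rw [← Subgroup.coe_pow, ← Subgroup.coe_pow, orderOf_dvd_iff_pow_eq_one.1 hd.dvd]; rfl⟩
    have hd1 : ((d : U) : G ⧸ K) ≠ 1 := fun h => by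
      rw [show d = 1 from Subtype.ext (Subtype.ext h), orderOf_one] at hd
      exact hp.one_lt.ne hd
    obtain ⟨χ, hχ⟩ := exists_zero_of_coset Y hYne (x := (x : G ⧸ K)) fun y hy => by
      obtain ⟨j, hj⟩ := hYgen _ hdY hd1 y hy
      have hu : φ (u₀ ^ j) = (d : U) ^ j := by rw [map_zpow, hu₀]
      refine (isConj_iff.2 ⟨((u₀ ^ j : U) : G ⧸ K), ?_⟩).symm
      have h2 : ((u₀ ^ j : U) : G ⧸ K) * x * ((u₀ ^ j : U) : G ⧸ K)⁻¹ * (x : G ⧸ K)⁻¹ = y :=
        (congrArg Subtype.val hu).trans (by rw [← hj, Subgroup.coe_zpow])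
      rw [← h2, inv_mul_cancel_right]
    have hx1 : (x : G ⧸ K) ≠ 1 := fun h => hxZ (by
      rw [show x = 1 from Subtype.ext h]; exact Subgroup.one_mem _)
    obtain ⟨x₀, hx₀⟩ := hmks (x : G ⧸ K)
    have hxY : (x : G ⧸ K) ∈ Y := hx₀ ▸ hmem x₀ (van_lift mk hmks
      (show Van p (mk x₀) from hx₀.symm ▸ ⟨hdvdU _ x.2 hx1, χ, hχ⟩))
    exact hxZ (Subgroup.mem_center_iff.2 fun u => Subtype.ext (((hY _).1 hxY).2.1 u u.2).symm)
  -- the `p`-core of the quotient is the layer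
  have hUY : U ≤ Y := by
    intro x hx
    by_contra hxY
    have hx1 : x ≠ 1 := fun h => hxY (h ▸ Y.one_mem)
    obtain ⟨j, hj⟩ := IsPGroup.iff_orderOf.1 hUp ⟨x, hx⟩
    rw [Subgroup.orderOf_mk] at hj
    obtain ⟨i, rfl⟩ : ∃ i, j = i + 1 := ⟨j - 1, by
      rcases j with _ | j
      · exact absurd (orderOf_eq_one_iff.1 (by rw [hj, pow_zero])) hx1
      · omega⟩
    obtain ⟨x₀, hx₀⟩ := hmks x
    set x2 := x₀ ^ Nat.card K with hx2
    have hx2Y : mk x2 ∉ Y := fun h => hxY (mem_of_pow_mem_of_coprime Y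
      (show x ^ Nat.card K ∈ Y by rw [← hx₀, ← map_pow]; exact h)
      (show x ^ p ^ (i + 1) ∈ Y by rw [← hj, pow_orderOf_eq_one]; exact Y.one_mem) (hcop.pow_right _))
    set z := x2 ^ p ^ i with hzdef
    have hmkz : mk z = (x ^ p ^ i) ^ Nat.card K := by
      rw [hzdef, hx2, ← pow_mul, map_pow, hx₀, ← pow_mul, mul_comm]
    have hxp : (x ^ p ^ i) ^ p = 1 := by rw [← pow_mul, ← pow_succ, ← hj, pow_orderOf_eq_one]
    have hzM : z ∈ M := by
      show mk z ∈ Y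
      rw [hmkz]
      exact Y.pow_mem ((hY _).2 ⟨U.pow_mem hx _, fun u hu => hUab _ (U.pow_mem hx _) u hu, hxp⟩) _
    have hzK : z ∉ K := fun h => by
      have h1 : (x ^ p ^ i) ^ Nat.card K = 1 := hmkz ▸ (QuotientGroup.eq_one_iff z).2 h
      have h2 := pow_gcd_eq_one.2 ⟨h1, hxp⟩
      rw [hcop, pow_one] at h2
      have h3 := orderOf_dvd_of_pow_eq_one h2
      rw [hj, Nat.pow_dvd_pow_iff_le_right hp.one_lt] at h3
      omega
    obtain ⟨χ, hχ⟩ := exists_zero_of_coset K (fun h => hm₁0 (hCK (by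
      rw [h]; exact Subgroup.mem_centralizer_iff.2 fun k hk => by
        rw [Subgroup.mem_bot.1 hk, one_mul, mul_one]))) (x := x2)
      (isConj_of_fpf K fun k hk hk2 => hfpf z hzM hzK k hk (Commute.pow_right hk2 (p ^ i)))
    refine hx2Y (hmem x2 ⟨?_, χ, hχ⟩)
    refine (hdvdU (mk x2) ?_ fun h => hx2Y (h ▸ Y.one_mem)).trans (orderOf_map_dvd mk x2)
    rw [hx2, map_pow, hx₀]; exact U.pow_mem hx _
  -- nothing of order divisible by `p` is left above `M`
  have hUeq : U = Y := le_antisymm hUY fun y hy => ((hY y).1 hy).1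
  subst hUeq
  haveI : Group.IsSolvable (G ⧸ K) := Group.isSolvable_of_surjective hmks
  haveI : Group.IsSolvable ((G ⧸ K) ⧸ U) :=
    Group.isSolvable_of_surjective (QuotientGroup.mk'_surjective U)
  have hnd : ¬ p ∣ Nat.card ((G ⧸ K) ⧸ U) := by
    intro hd
    obtain ⟨a, ha⟩ := exists_van (G := (G ⧸ K) ⧸ U) CfsgLib.PCore.pCore_quotient hd
    obtain ⟨b, rfl⟩ := QuotientGroup.mk'_surjective U a
    obtain ⟨b, rfl⟩ := hmks b
    have h := hmem b (van_lift mk hmks (van_lift _ (QuotientGroup.mk'_surjective U) ha))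
    rw [Van, show QuotientGroup.mk' U (mk b) = 1 from (QuotientGroup.eq_one_iff _).2 h, orderOf_one,
      Nat.dvd_one] at ha
    exact hp.one_lt.ne' ha.1
  have hUcard : Nat.card U = p := by
    rw [← hYord, ← Nat.card_zpowers]
    congr 1
    exact congrArg (fun L : Subgroup (G ⧸ K) => ↥L)
      (le_antisymm (fun y hy => hYcyc y hy) (Subgroup.zpowers_le.2 hs₀Y))
  rw [Subgroup.card_eq_card_quotient_mul_card_subgroup K,
    Subgroup.card_eq_card_quotient_mul_card_subgroup U, hUcard] at hsq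
  have h1 := (Nat.Coprime.pow_left 2 hcop.symm).dvd_of_dvd_mul_right hsq
  rw [pow_two] at h1
  exact hnd (Nat.dvd_of_mul_dvd_mul_right hp.pos h1)

/-- A Sylow subgroup has order at most `p` times the order of the `p`-core. -/
theorem sylow_bound [Group.IsSolvable G] (hone : One p G) (P : Sylow p G) :
    Nat.card (P : Subgroup G) ≤ p * Nat.card ↥(Cfsg.pCore p G) := by
  have hp : p.Prime := Fact.out
  haveI := CfsgLib.PCore.pCore_characteristic p G
  set O := Cfsg.pCore p G with hOdef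
  haveI : Group.IsSolvable (G ⧸ O) := Group.isSolvable_of_surjective (QuotientGroup.mk'_surjective O)
  have h := not_sq_dvd (G := G ⧸ O) (p := p) CfsgLib.PCore.pCore_quotient (one_quotient hone O)
  obtain ⟨a, ha⟩ := IsPGroup.iff_card.1 P.isPGroup'
  obtain ⟨b, hb⟩ := IsPGroup.iff_card.1 (CfsgLib.PCore.isPGroup_pCore p G)
  rw [ha, show Nat.card ↥O = p ^ b from hb, ← pow_succ']
  refine Nat.pow_le_pow_right hp.pos ?_
  by_contra hc
  refine h ?_
  have h1 : p ^ a ∣ Nat.card (G ⧸ O) * p ^ b := by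
    rw [← ha, ← hb, ← Subgroup.card_eq_card_quotient_mul_card_subgroup]
    exact Subgroup.card_subgroup_dvd_card _
  have h2 : p ^ (2 + b) ∣ Nat.card (G ⧸ O) * p ^ b := (pow_dvd_pow p (by omega)).trans h1
  rw [pow_add] at h2
  exact Nat.dvd_of_mul_dvd_mul_right (pow_pos hp.pos b) h2

end CfsgLib.VanishClass
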