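import Mathlib
import Cfsg.Agent.Clifford.CosetAvg
import Cfsg.Agent.Clifford.ExtCriteria
import Cfsg.Agent.CharBasics.ItoConverse
import Cfsg.Agent.NormalizerExtend.Basic

/-!
Zeros of irreducible characters: cosets inside a class, orbits of linear characters of an abelian
normal subgroup, and regular orbits of abelian coprime operator groups.
-/

set_option autoImplicit false

namespace CfsgLib.VanishClass

open CfsgLib.CharBasics
open scoped IsMulCommutative

universe u

variable {G : Type u} [Group G] [Finite G]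

/-- A coset of a nontrivial normal subgroup inside one class: some character vanishes there. -/
theorem exists_zero_of_coset (N : Subgroup G) [N.Normal] (hN : N ≠ ⊥) {x : G}
    (h : ∀ n ∈ N, IsConj (n * x) x) : ∃ χ : Cfsg.IrrCharacter G, (χ : G → ℂ) x = 0 := by
  classical
  have := Fintype.ofFinite G
  have := Fintype.ofFinite N
  obtain ⟨n, hn, hn1⟩ := (N.bot_or_exists_ne_one).resolve_left hN
  obtain ⟨χ, hχ⟩ := CfsgLib.NormalizerExtend.exists_irr_apply_ne hn1
  refine ⟨χ, ?_⟩
  have h0 := CfsgLib.Clifford.coset_sum_eq_zero χ.2 (fun hall => hχ (hall n hn)) x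
  rw [Finset.sum_congr rfl fun (m : N) _ => apply_isConj (isCharacter_of_irr χ.2) (h m m.2),
    Finset.sum_const, nsmul_eq_mul] at h0
  exact (mul_eq_zero.mp h0).resolve_left (Nat.cast_ne_zero.mpr Fintype.card_ne_zero)

/-- An element acting fixed point freely on a normal subgroup is conjugate to its coset. -/
theorem isConj_of_fpf (N : Subgroup G) [hN : N.Normal] {x : G}
    (h : ∀ n ∈ N, n * x = x * n → n = 1) : ∀ n ∈ N, IsConj (n * x) x := by
  let f : N → N := fun a => ⟨(a : G) * (x * (a : G)⁻¹ * x⁻¹),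
    N.mul_mem a.2 (hN.conj_mem _ (N.inv_mem a.2) x)⟩
  have hinj : Function.Injective f := by
    intro a b hab
    have h1 : (a : G) * (x * (a : G)⁻¹ * x⁻¹) = b * (x * (b : G)⁻¹ * x⁻¹) := congrArg Subtype.val hab
    have h2 : (b : G)⁻¹ * a * x = x * ((b : G)⁻¹ * a) := by
      have h4 : (b : G)⁻¹ * a * x = (b : G)⁻¹ * ((a : G) * (x * (a : G)⁻¹ * x⁻¹)) * x * a := by group
      rw [h4, h1]
      group
    exact Subtype.ext (inv_mul_eq_one.mp (h _ (N.mul_mem (N.inv_mem b.2) a.2) h2)).symm
  intro n hn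
  obtain ⟨a, ha⟩ := (Finite.injective_iff_surjective.mp hinj) ⟨n, hn⟩
  have ha' : (a : G) * (x * (a : G)⁻¹ * x⁻¹) = n := congrArg Subtype.val ha
  refine (isConj_iff.mpr ⟨(a : G), ?_⟩).symm
  rw [← ha']
  group

variable (V : Subgroup G) [hV : V.Normal] [IsMulCommutative V]

/-- An element moving every conjugate of a linear character of an abelian normal subgroup is a zero
of some irreducible character lying over it. -/
theorem exists_zero_of_moved (lam : V →* ℂˣ) {m : G}
    (hm : ∀ g : G, ∃ v : V, lam (MulAut.conjNormal g (MulAut.conjNormal m v)) ≠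
      lam (MulAut.conjNormal g v)) :
    ∃ χ : Cfsg.IrrCharacter G, (χ : G → ℂ) m = 0 := by
  classical
  have := Fintype.ofFinite G
  have := Fintype.ofFinite V
  let θ : Cfsg.IrrCharacter V :=
    ⟨fun v => (lam v : ℂ), CfsgLib.Clifford.isIrrCharacter_of_hom ((Units.coeHom ℂ).comp lam)⟩
  obtain ⟨χ, e, he, -, hin⟩ := CfsgLib.ItoConverse.exists_over V θ
  refine ⟨χ, ?_⟩
  obtain ⟨d, ρ, hirr, hρ⟩ := χ.2
  let μ : G → V → ℂ := fun g v => (lam (MulAut.conjNormal g v) : ℂ)
  have hμmul : ∀ g v w, μ g (v * w) = μ g v * μ g w := fun g v w => by simp [μ]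
  have hμinv : ∀ g v, μ g v * μ g v⁻¹ = 1 := fun g v => by
    rw [← hμmul, mul_inv_cancel]; simp [μ]
  let E : G → Module.End ℂ (Fin d → ℂ) := fun g => ∑ v : V, μ g v⁻¹ • ρ (v : G)
  have hEu : ∀ g (u : V), ρ (u : G) * E g = μ g u • E g := by
    intro g u
    show ρ (u : G) * ∑ v : V, _ = _ • ∑ v : V, _
    rw [Finset.mul_sum, Finset.smul_sum]
    refine Fintype.sum_equiv (Equiv.mulLeft u) _ _ fun v => ?_
    rw [mul_smul_comm, ← map_mul, smul_smul, Equiv.coe_mulLeft, mul_inv_rev, hμmul, Subgroup.coe_mul]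
    congr 1
    linear_combination (-μ g v⁻¹) * hμinv g u
  have hEu' : ∀ g (u : V), E g * ρ (u : G) = μ g u • E g := by
    intro g u
    rw [← hEu]
    show (∑ v : V, _) * _ = _ * ∑ v : V, _
    rw [Finset.mul_sum, Finset.sum_mul]
    refine Finset.sum_congr rfl fun v _ => ?_
    rw [smul_mul_assoc, mul_smul_comm, ← map_mul, ← map_mul, ← Subgroup.coe_mul, ← Subgroup.coe_mul,
      mul_comm v u]
  have hconj : ∀ h g, ρ h * E g = E (g * h⁻¹) * ρ h := by
    intro h g
    show ρ h * (∑ v : V, _) = (∑ v : V, _) * _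
    rw [Finset.mul_sum, Finset.sum_mul]
    refine Fintype.sum_equiv (MulAut.conjNormal h).toEquiv _ _ fun v => ?_
    rw [smul_mul_assoc, mul_smul_comm, ← map_mul, ← map_mul]
    congr 1
    · simp only [μ, MulEquiv.toEquiv_eq_coe, EquivLike.coe_coe, ← map_inv]
      congr 2
      apply Subtype.ext
      simp [mul_assoc]
    · simp [mul_assoc]
  let P : Module.End ℂ (Fin d → ℂ) := ∑ g : G, E g
  obtain ⟨c, hc⟩ := CfsgLib.Clifford.schur_scalar hirr P fun h => by
    show (∑ g, E g) * ρ h = ρ h * ∑ g, E g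
    rw [Finset.mul_sum, Finset.sum_mul]
    refine (Fintype.sum_equiv (Equiv.mulRight h⁻¹) _ _ fun g => ?_).symm
    exact hconj h g
  have htr1 : LinearMap.trace ℂ _ (E 1) = (Nat.card V : ℂ) * e := by
    have h1 : Cfsg.classInner (fun v : V => (χ : G → ℂ) v) (θ : V → ℂ) = e := hin
    rw [classInner_eq, inv_mul_eq_iff_eq_mul₀ (Nat.cast_ne_zero.mpr Nat.card_pos.ne')] at h1
    rw [← h1]
    show LinearMap.trace ℂ _ (∑ v : V, _) = _
    rw [map_sum]
    refine Finset.sum_congr rfl fun v _ => ?_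
    rw [← apply_inv (isCharacter_of_irr θ.2) v, map_smul, smul_eq_mul, mul_comm]
    show _ = (χ : G → ℂ) v * _
    rw [← hρ]
    simp [μ, θ, Representation.character]
  have htr : ∀ g, LinearMap.trace ℂ _ (E g) = (Nat.card V : ℂ) * e := by
    intro g
    have h1 : E g = ρ g⁻¹ * E 1 * ρ g := by
      rw [hconj, inv_inv, one_mul, mul_assoc, ← map_mul, inv_mul_cancel, map_one, mul_one]
    rw [h1, LinearMap.trace_mul_cycle, ← map_mul, mul_inv_cancel, map_one, one_mul, htr1]
  have hc0 : c ≠ 0 := by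
    intro h0
    have h1 : LinearMap.trace ℂ _ P = 0 := by rw [hc, h0, zero_smul, map_zero]
    simp only [P, map_sum, htr, Finset.sum_const, Finset.card_univ, nsmul_eq_mul] at h1
    simp [he.ne', Fintype.card_ne_zero] at h1
  have hzero : ∀ g, LinearMap.trace ℂ _ (E g * ρ m) = 0 := by
    intro g
    obtain ⟨u, hu⟩ := hm g
    have hu' : μ g (MulAut.conjNormal m u) ≠ μ g u := fun h => hu (Units.ext h)
    have h1 : μ g u * LinearMap.trace ℂ _ (E g * ρ m)
        = μ g (MulAut.conjNormal m u) * LinearMap.trace ℂ _ (E g * ρ m) := by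
      rw [← smul_eq_mul, ← map_smul, ← smul_mul_assoc, ← hEu, LinearMap.trace_mul_cycle, LinearMap.trace_mul_cycle, mul_assoc,
        show ρ m * ρ (u : G) = ρ ((MulAut.conjNormal m u : V) : G) * ρ m by
          rw [← map_mul, ← map_mul]; congr 1; simp [mul_assoc],
        ← mul_assoc, hEu', smul_mul_assoc, map_smul, smul_eq_mul]
    by_contra h
    exact hu' (mul_right_cancel₀ h h1).symm
  have h2 : LinearMap.trace ℂ _ (P * ρ m) = 0 := by
    simp only [P, Finset.sum_mul, map_sum, hzero, Finset.sum_const_zero]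
  rw [hc, smul_mul_assoc, one_mul, map_smul, smul_eq_mul] at h2
  rw [← hρ]
  exact (mul_eq_zero.mp h2).resolve_left hc0

/-- Minimality argument: among abelian coprime operators on an abelian group some element is
fixed only by operators acting trivially. -/
theorem exists_regular_abs {W : Type*} [CommGroup W] (S : Subgroup G)
    (hS : ∀ a ∈ S, ∀ b ∈ S, a * b = b * a) (act : G → W →* W)
    (hact : ∀ s t f, act t (act s f) = act (s * t) f) (hone : ∀ f, act 1 f = f) {e : ℕ}
    (hcop : (Nat.card S).Coprime e) (hW : ∀ f : W, f ^ e = 1) :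
    ∃ lam : W, ∀ s ∈ S, act s lam = lam → ∀ f, act s f = f := by
  classical
  let F : W → ℕ := fun f => {s : G | s ∈ S ∧ act s f = f}.ncard
  let lam := Function.argmin F
  refine ⟨lam, fun s₀ hs₀ hlam0 ν => ?_⟩
  by_contra hν'
  set n := Nat.card S with hn
  have hs₀n : s₀ ^ n = 1 := orderOf_dvd_iff_pow_eq_one.1 (Subgroup.orderOf_dvd_natCard S hs₀)
  let μ := ν / act s₀ ν
  let Nm : W → W := fun f => ∏ i ∈ Finset.range n, act (s₀ ^ i) f
  have hNμ : Nm μ = 1 := by
    show ∏ i ∈ Finset.range n, _ = _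
    rw [Finset.prod_congr rfl (g := fun i => act (s₀ ^ i) ν / act (s₀ ^ (i + 1)) ν) fun i _ => by
      rw [map_div, hact, ← pow_succ'], Finset.prod_range_div', hs₀n, pow_zero, div_self']
  have hfixed : ∀ f, act s₀ f = f → Nm f = f ^ n := by
    intro f hf
    have : ∀ i, act (s₀ ^ i) f = f := fun i => by
      induction i with
      | zero => rw [pow_zero, hone]
      | succ i ih => rw [pow_succ', ← hact, hf, ih]
    show ∏ i ∈ Finset.range n, _ = _
    rw [Finset.prod_congr rfl fun i _ => this i, Finset.prod_const, Finset.card_range]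
  have hkill : ∀ f : W, f ^ n = 1 → f = 1 := fun f hf => by
    have := pow_gcd_eq_one.2 ⟨hf, hW f⟩
    rwa [hcop, pow_one] at this
  have hμ0 : act s₀ μ ≠ μ := fun h => hν' (by
    have h1 := hkill μ (by rw [← hfixed μ h, hNμ])
    exact (div_eq_one.mp h1).symm)
  have hsub : ∀ s ∈ S, act s (lam * μ) = lam * μ → act s lam = lam ∧ act s μ = μ := by
    intro s hs h
    rw [map_mul] at h
    have hq : act s lam / lam = μ / act s μ := by
      rw [div_eq_div_iff_mul_eq_mul, h, mul_comm]
    have hfix' : act s₀ (act s lam / lam) = act s lam / lam := by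
      rw [map_div, hact, hS s hs s₀ hs₀, ← hact, hlam0]
    have hNs : Nm (μ / act s μ) = 1 := by
      show ∏ i ∈ Finset.range n, _ = _
      rw [Finset.prod_congr rfl (g := fun i => act (s₀ ^ i) μ / act s (act (s₀ ^ i) μ)) fun i _ => by
        rw [map_div, hact, hact, hS s hs _ (pow_mem hs₀ i)], Finset.prod_div_distrib, ← map_prod,
        show (∏ i ∈ Finset.range n, act (s₀ ^ i) μ) = 1 from hNμ, map_one, div_one]
    have h4 : act s lam = lam := div_eq_one.mp (hkill _ (by rw [← hfixed _ hfix', hq, hNs]))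
    exact ⟨h4, by rw [h4] at h; exact mul_left_cancel h⟩
  have hlt : F (lam * μ) < F lam := by
    refine Set.ncard_lt_ncard ?_ (Set.toFinite _)
    have hss : {s : G | s ∈ S ∧ act s (lam * μ) = lam * μ} ⊆ {s : G | s ∈ S ∧ act s lam = lam} :=
      fun s hs => ⟨hs.1, (hsub s hs.1 hs.2).1⟩
    refine (Set.ssubset_iff_of_subset hss).2
      ⟨s₀, ⟨hs₀, hlam0⟩, fun h => hμ0 (hsub s₀ h.1 h.2).2⟩
  exact Function.not_lt_argmin F (lam * μ) hlt

/-- An abelian coprime group has a linear character of `V` fixed only by the kernel of the action. -/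
theorem exists_regular_orbit (S : Subgroup G) (hS : ∀ a ∈ S, ∀ b ∈ S, a * b = b * a)
    (hcop : (Nat.card S).Coprime (Nat.card V)) :
    ∃ lam : V →* ℂˣ, ∀ s ∈ S, (∀ v : V, lam (MulAut.conjNormal s v) = lam v) →
      ∀ v : V, MulAut.conjNormal s v = v := by
  obtain ⟨lam, h⟩ := exists_regular_abs (W := V →* ℂˣ) S hS
    (fun s : G => MonoidHom.compHom' (MulAut.conjNormal (H := V) s).toMonoidHom)
    (fun s t f => MonoidHom.ext fun v => by simp) (fun f => MonoidHom.ext fun v => by simp) hcop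
    (fun f => MonoidHom.ext fun v => show f v ^ Nat.card V = 1 by
      rw [← map_pow, pow_card_eq_one', map_one])
  refine ⟨lam, fun s hs hfix v => ?_⟩
  have hall := h s hs (MonoidHom.ext hfix)
  by_contra hv
  obtain ⟨ν, hν⟩ := CommGroup.exists_apply_ne_one_of_hasEnoughRootsOfUnity V ℂ
    (show MulAut.conjNormal s v * v⁻¹ ≠ 1 from fun h => hv (mul_inv_eq_one.mp h))
  refine hν ?_
  rw [map_mul, map_inv, mul_inv_eq_one]
  exact DFunLike.congr_fun (hall ν) v

end CfsgLib.VanishClass
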